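import Groth.Agent.EssInjLib.Basic
import Groth.Agent.DRingLib.Descent
import Groth.Agent.DRingLib.WeaklyEtaleAmp
import Groth.Agent.DRingLib.FlatCoker
import Groth.Agent.DRingLib.RestrictAmp

/-!
# Tor amplitude over the base from the closed fibre
-/

set_option autoImplicit false
set_option linter.style.haveILetI false
set_option backward.isDefEq.respectTransparency false
set_option maxHeartbeats 1000000

universe u

open CategoryTheory Limits MonoidalCategory TensorProduct IsLocalRing
attribute [local instance] HasDerivedCategory.standard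

noncomputable section

namespace Groth.Agent.FibAmp

open Groth.Agent.DRingLib Groth.Agent.DCohLib

variable {A B : Type u} [CommRing A] [CommRing B] [IsLocalRing A] [IsLocalRing B] [Algebra A B]
  [IsLocalHom (algebraMap A B)] [Algebra.EssFiniteType A B]

/-- Exactness on the closed fibre gives exactness and a flat cokernel. -/
theorem exact_and_flat_coker {F₂ F₁ F₀ : Type u} [AddCommGroup F₂] [Module B F₂] [Module A F₂]
    [IsScalarTower A B F₂] [AddCommGroup F₁] [Module B F₁] [Module A F₁] [IsScalarTower A B F₁] [Module.Finite B F₁]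
    [AddCommGroup F₀] [Module B F₀] [Module A F₀] [IsScalarTower A B F₀] [Module.Finite B F₀] [Module.Flat A F₀]
    (f : F₂ →ₗ[B] F₁) (g : F₁ →ₗ[B] F₀) (hgf : g.comp f = 0)
    (h : Function.Exact ((f.restrictScalars A).lTensor (A ⧸ maximalIdeal A))
      ((g.restrictScalars A).lTensor (A ⧸ maximalIdeal A))) :
    Function.Exact f g ∧ Module.Flat A (F₀ ⧸ LinearMap.range g) := by
  let L := LinearMap.range f
  let u : (F₁ ⧸ L) →ₗ[B] F₀ := L.liftQ g (by rintro _ ⟨x, rfl⟩; exact LinearMap.congr_fun hgf x)
  haveI : LinearMap.CompatibleSMul (F₁ ⧸ L) F₀ A B := LinearMap.IsScalarTower.compatibleSMul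
  let eq : ∀ (M : Type u) [AddCommGroup M] [Module A M] (m : M),
      (Ideal.Quotient.mk (maximalIdeal A) 1) ⊗ₜ[A] m = 0 → m ∈ (maximalIdeal A • ⊤ : Submodule A M) :=
    fun M _ _ m hm => by
      have h2 := congrArg (TensorProduct.quotTensorEquivQuotSMul M (maximalIdeal A)) hm
      rw [map_zero, TensorProduct.quotTensorEquivQuotSMul_mk_tmul, one_smul] at h2
      exact (Submodule.Quotient.mk_eq_zero _).1 h2
  have hu : ∀ x, u x ∈ (maximalIdeal A • ⊤ : Submodule A F₀) →
      x ∈ (maximalIdeal A • ⊤ : Submodule A (F₁ ⧸ L)) := by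
    intro x hx
    obtain ⟨x, rfl⟩ := L.mkQ_surjective x
    change g x ∈ (maximalIdeal A • ⊤ : Submodule A F₀) at hx
    have h0 : (g.restrictScalars A).lTensor (A ⧸ maximalIdeal A)
        (Ideal.Quotient.mk (maximalIdeal A) 1 ⊗ₜ[A] x) = 0 := by
      show Ideal.Quotient.mk (maximalIdeal A) 1 ⊗ₜ[A] g x = 0
      refine (TensorProduct.quotTensorEquivQuotSMul F₀ (maximalIdeal A)).injective ?_
      rw [map_zero, TensorProduct.quotTensorEquivQuotSMul_mk_tmul, one_smul]
      exact (Submodule.Quotient.mk_eq_zero _).2 hx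
    obtain ⟨w, hw⟩ := (h _).1 h0
    obtain ⟨y, rfl⟩ := TensorProduct.mk_surjective A F₂ (A ⧸ maximalIdeal A) Ideal.Quotient.mk_surjective w
    have h1 := eq F₁ (f y - x) (by
      rw [TensorProduct.tmul_sub, sub_eq_zero]
      exact hw)
    have h2 : (L.mkQ.restrictScalars A) (f y - x) ∈ (maximalIdeal A • ⊤ : Submodule A (F₁ ⧸ L)) := by
      have h3 := Submodule.mem_map_of_mem (f := L.mkQ.restrictScalars A) h1
      rw [Submodule.map_smul''] at h3
      exact Submodule.smul_mono le_rfl le_top h3
    rw [map_sub, LinearMap.restrictScalars_apply, LinearMap.restrictScalars_apply, L.mkQ_apply (f y),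
      (Submodule.Quotient.mk_eq_zero L).2 ⟨y, rfl⟩, zero_sub] at h2
    exact neg_mem_iff.1 h2
  refine ⟨fun x => ⟨fun hx => ?_, fun ⟨y, hy⟩ => hy ▸ LinearMap.congr_fun hgf y⟩, ?_⟩
  · exact (Submodule.Quotient.mk_eq_zero L).1 (EssInjLib.injective u hu (hx.trans (map_zero u).symm))
  · have := EssInjLib.flat_coker u hu
    rwa [Submodule.range_liftQ] at this

/-- Tor amplitude over the base from exactness on the closed fibre. -/
theorem amp_of_fibre (hflat : (algebraMap A B).Flat) {E : DRing.Cx B} {c : ℤ} (hb : DRing.VanishesAbove E c)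
    (hproj : ∀ i, Module.Projective B (E.X i)) (hfin : ∀ i, Module.Finite B (E.X i)) (a : ℤ) (hac : a ≤ c + 1)
    (h : ∀ i, i < a →
      ((tensM (ModuleCat.of A (A ⧸ maximalIdeal A))).obj ((DTen.resCx (algebraMap A B)).obj E)).ExactAt i) :
    DRing.HasTorAmplitudeIn A a c (DRing.toD ((DTen.resCx (algebraMap A B)).obj E)) := by
  haveI : Module.Flat A B := RingHom.flat_algebraMap_iff.1 hflat
  let P := (DTen.resCx (algebraMap A B)).obj E
  let inst : ∀ i, Module A (E.X i) := fun i => Module.compHom (E.X i) (algebraMap A B)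
  haveI : ∀ i, IsScalarTower A B (E.X i) := fun i => .of_algebraMap_smul fun _ _ => rfl
  have hfl : ∀ i, Module.Flat A (E.X i) := fun i => by
    haveI := hproj i
    exact Module.Flat.trans A B (E.X i)
  have key : ∀ i, i < a → P.ExactAt i ∧
      Module.Flat A (E.X (i + 1) ⧸ LinearMap.range (E.d i (i + 1)).hom) := by
    intro i hi
    haveI := hfin i
    haveI := hfin (i + 1)
    haveI := hfl (i + 1)
    have h' := h i hi
    rw [HomologicalComplex.exactAt_iff' _ (i - 1) i (i + 1) (by simp) (by simp),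
      ShortComplex.ShortExact.moduleCat_exact_iff_function_exact] at h'
    obtain ⟨h1, h2⟩ := exact_and_flat_coker (A := A) (E.d (i - 1) i).hom (E.d i (i + 1)).hom
      (congrArg ModuleCat.Hom.hom (E.d_comp_d (i - 1) i (i + 1))) h'
    refine ⟨(exactAt_resCx_iff _ E i).2 ?_, h2⟩
    rw [HomologicalComplex.exactAt_iff' _ (i - 1) i (i + 1) (by simp) (by simp),
      ShortComplex.ShortExact.moduleCat_exact_iff_function_exact]
    exact h1
  have hcok : Module.Flat A (P.opcycles a) := by
    obtain ⟨e⟩ := opcycles_equiv P a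
    have hk := (key (a - 1) (by omega)).2
    rw [sub_add_cancel] at hk
    haveI : Module.Flat A ((E.X a) ⧸ LinearMap.range (E.d (a - 1) a).hom) := hk
    haveI : Module.Flat A ((P.X a) ⧸ LinearMap.range (P.d (a - 1) a).hom) := by
      refine Module.Flat.of_linearEquiv (M := (E.X a) ⧸ LinearMap.range (E.d (a - 1) a).hom) ?_
      exact (Submodule.quotEquivOfEq _ _ (by ext; rfl)).trans
        (Submodule.Quotient.restrictScalarsEquiv A (LinearMap.range (E.d (a - 1) a).hom))
    exact Module.Flat.of_linearEquiv e.symm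
  obtain ⟨F, hF, hFfl, ⟨e⟩⟩ := exists_truncated (P := P) (Ψ := fun M => Module.Flat A M)
    (fun e hM => by
      haveI := hM
      exact Module.Flat.of_linearEquiv e.symm.toLinearEquiv)
    (fun hM => by
      haveI := ModuleCat.subsingleton_of_isZero hM
      exact inferInstance)
    a c hac (fun i hi => (ModuleCat.restrictScalars.{u} (algebraMap A B)).map_isZero (hb i hi))
    (fun i _ => hfl i) (fun i hi => (key i hi).1) hcok
  exact ⟨F, hF, hFfl, ⟨e⟩⟩

end Groth.Agent.FibAmp
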