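import Groth.Agent.PCThickLib.Rel
import Groth.Agent.DRingLib.TensorAmp

/-!
# Exactness on closed fibres from the tor amplitude of an inverse image
-/

set_option autoImplicit false
set_option linter.style.haveILetI false
set_option maxHeartbeats 1000000
set_option backward.isDefEq.respectTransparency false

universe u

open CategoryTheory CategoryTheory.Limits AlgebraicGeometry TopologicalSpace

attribute [local instance] HasDerivedCategory.standard

noncomputable section

namespace Groth.Agent.FibAmp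

open Groth.Agent.DCohLib Groth.Agent.DRingLib Groth.Agent.PCThick

section Algebra

variable {A' A B' B : Type u} [CommRing A'] [CommRing A] [CommRing B'] [CommRing B]

/-- Tensoring with modules killed by the kernel of the base surjection. -/
theorem exactAt_killed_of_square (φ : A' →+* A) (χ : A' →+* B') (ψ : B' →+* B) (γ : A →+* B)
    (hc : γ.comp φ = ψ.comp χ) (hφ : Function.Surjective φ)
    (hψ : Function.Surjective ψ) (hker : RingHom.ker ψ = (RingHom.ker φ).map χ)
    (hflat : χ.Flat) {P : DRing.Cx B'} (hP : DRing.IsKFlat B' P)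
    {a b : ℤ} (h : letI := ψ.toAlgebra
      DRing.HasTorAmplitudeIn A a b (DRing.toD ((DTen.resCx γ).obj
        (((bcF B' B).mapHomologicalComplex (ComplexShape.up ℤ)).obj P))))
    (M : Type u) [AddCommGroup M] [Module A' M] (hM : ∀ r ∈ RingHom.ker φ, ∀ m : M, r • m = 0)
    (i : ℤ) (hi : i < a) :
    ((tensM (ModuleCat.of A' M)).obj ((DTen.resCx χ).obj P)).ExactAt i := by
  letI := ψ.toAlgebra
  have hK : DRing.IsKFlat A' ((DTen.resCx χ).obj P) := by
    refine isKFlat_resCx χ ?_ hP
    letI := χ.toAlgebra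
    haveI : Module.Flat A' B' := RingHom.flat_algebraMap_iff.1 hflat
    exact Module.Flat.of_linearEquiv (baseModEquiv A' B')
  let bcExtIso : bcF B' B ≅ ModuleCat.extendScalars.{u, u, u} ψ :=
    NatIso.ofComponents (fun M => Iso.refl ((bcF B' B).obj M) :) fun f => by
      refine ModuleCat.hom_ext (LinearMap.ext fun z => ?_)
      rfl
  refine exactAt_tensM_of_killed φ hφ (fun M' => tensVanish_of_amplitude (DTenLib.isKFlat_extCx φ hK)
    (amp_of_iso (DerivedCategory.Q.mapIso ?_) h) M' i (Or.inl hi)) M hM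
  exact (DTen.resCx γ).mapIso ((NatIso.mapHomologicalComplex bcExtIso _).app P) ≪≫
    (mapCxSquareIso (ModuleCat.restrictScalars.{u} χ) (ModuleCat.extendScalars.{u, u, u} φ)
      (ModuleCat.extendScalars.{u, u, u} ψ) (ModuleCat.restrictScalars.{u} γ)
      (squareIso φ χ ψ γ hc hφ hψ hker) P).symm

end Algebra

variable {X X' Y Y' : Scheme.{u}}

/-- The data of the square of local rings along a closed immersion of the base. -/
theorem exists_stalk_square_closed {f : X ⟶ Y} {f' : X' ⟶ Y'} {i : X ⟶ X'} {j : Y ⟶ Y'}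
    (sq : IsPullback i f f' j) [IsClosedImmersion j] (x : X) :
    ∃ φ : Y'.presheaf.stalk (f' (i x)) →+* Y.presheaf.stalk (f x),
      Function.Surjective φ ∧ IsLocalHom φ ∧
      (f.stalkMap x).hom.comp φ = (i.stalkMap x).hom.comp (f'.stalkMap (i x)).hom ∧
      RingHom.ker (i.stalkMap x).hom = (RingHom.ker φ).map (f'.stalkMap (i x)).hom := by
  haveI : IsClosedImmersion i := MorphismProperty.of_isPullback sq.flip ‹_›
  have key : ∀ (z : Y) (y' : Y') (e : j z = y'), ∃ φ : Y'.presheaf.stalk y' →+* Y.presheaf.stalk z,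
      Function.Surjective φ ∧ IsLocalHom φ ∧ RingHom.ker φ = IntMult.stalkIdeal j.ker y' ∧
      φ = ((Y'.presheaf.stalkSpecializes (specializes_of_eq e)) ≫ j.stalkMap z).hom := by
    rintro z _ rfl
    exact ⟨(j.stalkMap z).hom, j.stalkMap_surjective z, inferInstance, ker_stalkMap_eq j z, by simp⟩
  have hxy : j (f x) = f' (i x) := by
    rw [← Scheme.Hom.comp_apply, ← Scheme.Hom.comp_apply, sq.w]
  obtain ⟨φ, h1, h2, h3, h4⟩ := key (f x) (f' (i x)) hxy
  refine ⟨φ, h1, h2, ?_, ?_⟩
  · rw [h4, ← CommRingCat.hom_comp, ← CommRingCat.hom_comp]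
    refine congrArg CommRingCat.Hom.hom ?_
    rw [Category.assoc, ← Scheme.Hom.stalkMap_comp, ← Scheme.Hom.stalkMap_comp,
      Scheme.Hom.stalkMap_congr_hom (i ≫ f') (f ≫ j) sq.w x, TopCat.Presheaf.stalkCongr_hom]
  · rw [ker_stalkMap_eq i x, ThickBC.ker_of_isPullback sq, IdealStalkLib.stalkIdeal_comap, h3]

/-- Exactness on the closed fibre below the amplitude. -/
theorem exactAt_fibre_of_lpull {f : X ⟶ Y} {f' : X' ⟶ Y'} {i : X ⟶ X'} {j : Y ⟶ Y'} (sq : IsPullback i f f' j)
    [Flat f'] [IsClosedImmersion j] [DCoh.HasLpull i] {K : DCoh.D X'}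
    {F : CochainComplex X.Modules ℤ} (e : DCoh.toD X F ≅ (DCoh.Lpull i).obj K) {a b : ℤ} (x : X)
    (h : DerSch.HasTorAmplitudeAt f a b F x) (n : ℤ) (hn : n < a) :
    ((tensM (ModuleCat.of _ (Y'.presheaf.stalk (f' (i x)) ⧸
        IsLocalRing.maximalIdeal (Y'.presheaf.stalk (f' (i x)))))).obj
      ((DTen.resCx (f'.stalkMap (i x)).hom).obj (((stkF (i x)).mapHomologicalComplex (ComplexShape.up ℤ)).obj
        ((resX X').obj (DerivedCategory.Q.objPreimage K))))).ExactAt n := by
  let P := (resX X').obj (DerivedCategory.Q.objPreimage K)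
  have hP : DCoh.IsKFlat P := isKFlat_resX _
  haveI : IsClosedImmersion i := MorphismProperty.of_isPullback sq.flip ‹_›
  obtain ⟨φ, h1, h2, h3, h4⟩ := exists_stalk_square_closed sq x
  have hA := DerSchH7.hasTorAmplitudeAt_congr f
    (e ≪≫ (DCoh.Lpull i).mapIso (resXIso K).symm ≪≫ lpullIso i P hP (isFlat_resX _)) h
  letI := (i.stalkMap x).hom.toAlgebra
  refine exactAt_killed_of_square φ (f'.stalkMap (i x)).hom (i.stalkMap x).hom (f.stalkMap x).hom h3 h1
    (i.stalkMap_surjective x) h4 (Flat.stalkMap f' (i x)) ((isKFlat_iff_stalk P).1 hP (i x)) (b := b)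
    (amp_of_iso (DerivedCategory.Q.mapIso (DerSchH7.stalkCxOverResIso f x _ ≪≫
    (DTen.resCx (f.stalkMap x).hom).mapIso (mapCxSquareIso (Scheme.Modules.pullback i) (stkF x) (stkF (i x))
      (bcF (X'.presheaf.stalk (i x)) (X.presheaf.stalk x)) (pullStalkNatIso i x) P))) hA) _
    (fun r hr m => ?_) n hn
  obtain ⟨m, rfl⟩ := Ideal.Quotient.mk_surjective m
  refine Ideal.Quotient.eq_zero_iff_mem.2 (Ideal.mul_mem_right _ _ ?_)
  exact (IsLocalRing.mem_maximalIdeal r).2 fun hu => not_isUnit_zero ((RingHom.mem_ker.1 hr) ▸ hu.map φ)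

end Groth.Agent.FibAmp
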