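import Groth.Agent.FibAmpLib.Core
import Groth.Agent.FibAmpLib.Fibre
import Groth.Agent.DCohMore.RelPerfAffine
import Groth.Agent.DCohMore.RelPerfTerms
import Groth.Agent.DRingLib.DescentPC
import Groth.Agent.TildePerf.PC
import Groth.Agent.TildeD.QCohPull

/-!
# Finite tor amplitude relative to a base from a closed subscheme inside the radical
-/

set_option autoImplicit false
set_option linter.style.haveILetI false
set_option maxHeartbeats 1000000
set_option backward.isDefEq.respectTransparency false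

universe u

open CategoryTheory CategoryTheory.Limits AlgebraicGeometry TopologicalSpace DTen
open scoped TensorProduct

attribute [local instance] HasDerivedCategory.standard

noncomputable section

namespace Groth.Agent.FibAmp

open Groth.Agent.DCohLib Groth.Agent.DRingLib Groth.Agent.DCohMore Groth.Agent.DerSchH7 Groth.Agent.DTenLib

variable {X S : Scheme.{u}}

/-- Exactness below `a` of a stalk complex on the closed fibre of the base. -/
def FibEx (f : X ⟶ S) (G : CochainComplex X.Modules ℤ) (x : X) (a : ℤ) : Prop :=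
  ∀ n, n < a → ((tensM (ModuleCat.of _ (S.presheaf.stalk (f x) ⧸ IsLocalRing.maximalIdeal (S.presheaf.stalk (f x))))).obj
    ((DerSch.stalkCxOver f x).obj G)).ExactAt n

theorem fibEx_restrict {U : Scheme.{u}} (j : U ⟶ X) [IsOpenImmersion j] (f : X ⟶ S) {h : U ⟶ S}
    (hh : j ≫ f = h) {G : CochainComplex X.Modules ℤ} {y : U} {a : ℤ} (hG : FibEx f G (j y) a) :
    FibEx h ((resCx j).obj G) y a := by
  subst hh
  intro n hn
  exact (hG n hn).of_iso ((tensM _).mapIso (restrictStalkCxOverIso j f y G).symm)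

theorem fibEx_congr (f : X ⟶ S) [Flat f] {G G' : CochainComplex X.Modules ℤ}
    {x : X} (hG : DRing.IsKFlat _ (((stkF x).mapHomologicalComplex (ComplexShape.up ℤ)).obj G))
    (hG' : DRing.IsKFlat _ (((stkF x).mapHomologicalComplex (ComplexShape.up ℤ)).obj G'))
    (e : DCoh.toD X G ≅ DCoh.toD X G') {a : ℤ} (h : FibEx f G x a) : FibEx f G' x a := by
  intro n hn
  have hfl : Module.Flat (S.presheaf.stalk (f x)) (baseMod (f.stalkMap x).hom) := by
    letI := (f.stalkMap x).hom.toAlgebra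
    haveI : Module.Flat (S.presheaf.stalk (f x)) (X.presheaf.stalk x) :=
      RingHom.flat_algebraMap_iff.1 (Flat.stalkMap f x)
    exact Module.Flat.of_linearEquiv (baseModEquiv (S.presheaf.stalk (f x)) (X.presheaf.stalk x))
  obtain ⟨e₁⟩ := nonempty_stalkCxOver_iso f x e
  obtain ⟨e₂⟩ := nonempty_tensM_iso (isKFlat_resCx _ hfl hG) (isKFlat_resCx _ hfl hG')
    ((DerivedCategory.Q.mapIso (stalkCxOverResIso f x G)).symm ≪≫ e₁ ≪≫
      DerivedCategory.Q.mapIso (stalkCxOverResIso f x G'))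
    (ModuleCat.of _ (S.presheaf.stalk (f x) ⧸ IsLocalRing.maximalIdeal (S.presheaf.stalk (f x))))
  exact (exactAt_of_toD_iso e₂ n ((h n hn).of_iso ((tensM _).mapIso (stalkCxOverResIso f x G)))).of_iso
    ((tensM _).mapIso (stalkCxOverResIso f x G').symm)

section Affine

variable {R A : Type u} [CommRing R] [CommRing A] (ψ : R →+* A)

theorem isKFlat_stk_tilC {N : DRing.Cx A} (hN : DRing.IsKFlat A N) (y : Spec (CommRingCat.of A)) :
    DRing.IsKFlat _ (((stkF y).mapHomologicalComplex (ComplexShape.up ℤ)).obj (TildePerf.tilC N)) :=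
  isKFlat_of_iso_ring (tildeStalkCxIso y N) (DTenLib.isKFlat_extCx _ hN)

/-- Amplitude at a point from exactness on the fibre. -/
theorem amp_of_fibEx [Flat (Spec.map (CommRingCat.ofHom ψ))] [LocallyOfFiniteType (Spec.map (CommRingCat.ofHom ψ))]
    {N : DRing.Cx A} {c : ℤ} (hb : DRing.VanishesAbove N c) (hproj : ∀ i, Module.Projective A (N.X i))
    (hfin : ∀ i, Module.Finite A (N.X i)) {a : ℤ} (hac : a ≤ c + 1) (y : Spec (CommRingCat.of A))
    (h : FibEx (Spec.map (CommRingCat.ofHom ψ)) (TildePerf.tilC N) y a) :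
    DerSch.HasTorAmplitudeAt (Spec.map (CommRingCat.ofHom ψ)) a c (TildePerf.tilC N) y := by
  let g := Spec.map (CommRingCat.ofHom ψ)
  letI := (g.stalkMap y).hom.toAlgebra
  haveI : Algebra.EssFiniteType ((Spec (CommRingCat.of R)).presheaf.stalk (g y))
      ((Spec (CommRingCat.of A)).presheaf.stalk y) := LocallyOfFiniteType.stalkMap g y
  haveI : IsLocalHom (algebraMap ((Spec (CommRingCat.of R)).presheaf.stalk (g y))
      ((Spec (CommRingCat.of A)).presheaf.stalk y)) := g.toLRSHom.prop y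
  let E := (DTen.extCx (toStk y)).obj N
  let eE : (DerSch.stalkCxOver g y).obj (TildePerf.tilC N) ≅ (DTen.resCx (g.stalkMap y).hom).obj E :=
    stalkCxOverResIso g y _ ≪≫ (DTen.resCx (g.stalkMap y).hom).mapIso (tildeStalkCxIso y N).symm
  refine amp_of_iso (DerivedCategory.Q.mapIso eE).symm
    (amp_of_fibre (Flat.stalkMap g y) (E := E)
      (fun i hi => (ModuleCat.extendScalars.{u, u, u} (toStk y)).map_isZero (hb i hi))
      (fun i => ?_) (fun i => ?_) a hac (fun n hn => (h n hn).of_iso ((tensM _).mapIso eE)))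
  · letI := (toStk y).toAlgebra
    haveI := hproj i
    exact inferInstanceAs (Module.Projective ((Spec (CommRingCat.of A)).presheaf.stalk y)
      ((Spec (CommRingCat.of A)).presheaf.stalk y ⊗[A] N.X i))
  · letI := (toStk y).toAlgebra
    haveI := hfin i
    exact inferInstanceAs (Module.Finite ((Spec (CommRingCat.of A)).presheaf.stalk y)
      ((Spec (CommRingCat.of A)).presheaf.stalk y ⊗[A] N.X i))

/-- Amplitude passes to generizations. -/
theorem amp_of_specializes (N : DRing.Cx A) {a b : ℤ} {y₀ y₁ : Spec (CommRingCat.of A)} (hy : y₀ ⤳ y₁)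
    (h : DerSch.HasTorAmplitudeAt (Spec.map (CommRingCat.ofHom ψ)) a b (TildePerf.tilC N) y₁) :
    DerSch.HasTorAmplitudeAt (Spec.map (CommRingCat.ofHom ψ)) a b (TildePerf.tilC N) y₀ := by
  refine (hasTorAmplitudeAt_tilde_iff ψ N a b y₀).2 ?_
  have h1 := (hasTorAmplitudeAt_tilde_iff ψ N a b y₁).1 h
  let χ := ((Spec (CommRingCat.of A)).presheaf.stalkSpecializes hy).hom
  have hχ : χ.comp (toStk y₁) = toStk y₀ :=
    congrArg CommRingCat.Hom.hom (StructureSheaf.toStalk_stalkSpecializes (R := A) hy)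
  have hflat : Module.Flat ((Spec (CommRingCat.of A)).presheaf.stalk y₁) (baseMod χ) := by
    letI := χ.toAlgebra
    letI : Algebra A ((Spec (CommRingCat.of A)).presheaf.stalk y₁) := (toStk y₁).toAlgebra
    letI : Algebra A ((Spec (CommRingCat.of A)).presheaf.stalk y₀) := (toStk y₀).toAlgebra
    haveI : IsScalarTower A ((Spec (CommRingCat.of A)).presheaf.stalk y₁)
        ((Spec (CommRingCat.of A)).presheaf.stalk y₀) := .of_algebraMap_eq' hχ.symm
    haveI h₁ : IsLocalization y₁.asIdeal.primeCompl ((Spec (CommRingCat.of A)).presheaf.stalk y₁) :=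
      StructureSheaf.IsLocalization.to_stalk A y₁
    haveI h₀ : IsLocalization y₀.asIdeal.primeCompl ((Spec (CommRingCat.of A)).presheaf.stalk y₀) :=
      StructureSheaf.IsLocalization.to_stalk A y₀
    haveI := IsLocalization.flat ((Spec (CommRingCat.of A)).presheaf.stalk y₀) y₀.asIdeal.primeCompl
    haveI : Module.Flat ((Spec (CommRingCat.of A)).presheaf.stalk y₁)
        ((Spec (CommRingCat.of A)).presheaf.stalk y₀) :=
      (Module.flat_iff_of_isLocalization _ y₁.asIdeal.primeCompl _).2 inferInstance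
    exact Module.Flat.of_linearEquiv (baseModEquiv _ _)
  refine amp_of_iso ?_ (amp_restrict_ext_of_flat ((toStk y₁).comp ψ) χ hflat _ h1)
  refine eqToIso ?_ ≪≫ (DRing.restrictD ((toStk y₀).comp ψ)).mapIso (DerivedCategory.Q.mapIso
    (extCxComp (toStk y₁) χ N ≪≫ eqToIso (by rw [hχ])))
  rw [← RingHom.comp_assoc, hχ]

/-- The upper bound is that of the complex. -/
theorem amp_upper [Flat (Spec.map (CommRingCat.ofHom ψ))] {N : DRing.Cx A} {c : ℤ}
    (hb : DRing.VanishesAbove N c) (hN : DRing.IsKFlat A N) {a b : ℤ} {y : Spec (CommRingCat.of A)}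
    (h : DerSch.HasTorAmplitudeAt (Spec.map (CommRingCat.ofHom ψ)) a b (TildePerf.tilC N) y) :
    DerSch.HasTorAmplitudeAt (Spec.map (CommRingCat.ofHom ψ)) a c (TildePerf.tilC N) y := by
  let g := Spec.map (CommRingCat.ofHom ψ)
  let Z := (DerSch.stalkCxOver g y).obj (TildePerf.tilC N)
  have hfl : Module.Flat ((Spec (CommRingCat.of R)).presheaf.stalk (g y)) (baseMod (g.stalkMap y).hom) := by
    letI := (g.stalkMap y).hom.toAlgebra
    haveI : Module.Flat ((Spec (CommRingCat.of R)).presheaf.stalk (g y)) ((Spec (CommRingCat.of A)).presheaf.stalk y) :=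
      RingHom.flat_algebraMap_iff.1 (Flat.stalkMap g y)
    exact Module.Flat.of_linearEquiv (baseModEquiv _ ((Spec (CommRingCat.of A)).presheaf.stalk y))
  have hZ : DRing.IsKFlat _ Z :=
    isKFlat_of_iso_ring (stalkCxOverResIso g y _).symm (isKFlat_resCx _ hfl (isKFlat_stk_tilC hN y))
  refine amp_of_tensVanish hZ fun M i hi => ?_
  rcases hi with hi | hi
  · exact tensVanish_of_amplitude hZ h M i (Or.inl hi)
  · exact ShortComplex.exact_of_isZero_X₂ _ ((MonoidalCategory.tensorLeft M).map_isZero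
      ((DerSch.stalkOver g y).map_isZero (TildePerf.map_isZero_tilde (R := CommRingCat.of A) (hb i hi))))

end Affine

theorem hasTorAmplitudeAt_hom_congr {f g : X ⟶ S} (h : f = g) {a b : ℤ} {F : CochainComplex X.Modules ℤ} {x : X} :
    DerSch.HasTorAmplitudeAt f a b F x ↔ DerSch.HasTorAmplitudeAt g a b F x := by
  subst h
  rfl

theorem locFiniteTorAmplitudeD_of_fibre (R : Type u) [CommRing R] {I : Ideal R}
    (hI : I ≤ Ideal.jacobson ⊥) {X : Scheme.{u}} (f : X ⟶ Spec (CommRingCat.of R)) [IsProper f] [Flat f]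
    [DCoh.HasLpull (pullback.fst f (Spec.map (CommRingCat.ofHom (Ideal.Quotient.mk I))))]
    (E : DCoh.D X) (hpc : ∀ m : ℤ, DCoh.IsPseudoCoherentD m E)
    {F₀ : CochainComplex (pullback f (Spec.map (CommRingCat.ofHom (Ideal.Quotient.mk I)))).Modules ℤ}
    (e₀ : DCoh.toD _ F₀ ≅ (DCoh.Lpull (pullback.fst f (Spec.map (CommRingCat.ofHom (Ideal.Quotient.mk I))))).obj E)
    (h₀ : DerSch.LocFiniteTorAmplitude (pullback.snd f (Spec.map (CommRingCat.ofHom (Ideal.Quotient.mk I)))) F₀) :
    DerSch.LocFiniteTorAmplitudeD f E := by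
  classical
  let j := Spec.map (CommRingCat.ofHom (Ideal.Quotient.mk I))
  haveI : IsClosedImmersion j := IsClosedImmersion.spec_of_surjective _ Ideal.Quotient.mk_surjective
  haveI : CompactSpace X := QuasiCompact.compactSpace_of_compactSpace f
  let i := pullback.fst f j
  haveI : CompactSpace (pullback f j : Scheme.{u}) := QuasiCompact.compactSpace_of_compactSpace i
  -- a uniform lower bound
  choose V₀ a₀ b₀ hx₀ hV₀ using h₀
  obtain ⟨t, ht⟩ := isCompact_univ.elim_finite_subcover (fun x => (V₀ x : Set (pullback f j : Scheme.{u})))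
    (fun x => (V₀ x).isOpen) fun x _ => Set.mem_iUnion.2 ⟨x, hx₀ x⟩
  obtain ⟨a, ha⟩ := (t.finite_toSet.image a₀).bddBelow
  let P := (resX X).obj (DerivedCategory.Q.objPreimage E)
  have hfib : ∀ z : X, IsClosed ({z} : Set X) → FibEx f P z a := by
    intro z hz
    have hfz : IsClosed ({f z} : Set (Spec (CommRingCat.of R))) := by
      simpa using f.isClosedMap _ hz
    obtain ⟨q, hq⟩ : f z ∈ Set.range j := by
      show f z ∈ Set.range (PrimeSpectrum.comap (Ideal.Quotient.mk I))
      rw [range_comap_of_surjective _ _ Ideal.Quotient.mk_surjective, Ideal.mk_ker]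
      haveI : (f z).asIdeal.IsMaximal := (PrimeSpectrum.isClosed_singleton_iff_isMaximal _).1 hfz
      exact hI.trans (sInf_le ⟨bot_le, ‹_›⟩)
    obtain ⟨z₀, hz₀, -⟩ := Scheme.Pullback.exists_preimage_pullback (f := f) (g := j) z q hq.symm
    obtain ⟨y, hy, hz₀'⟩ := Set.mem_iUnion₂.1 (ht (Set.mem_univ z₀))
    intro n hn
    rw [← hz₀]
    exact (exactAt_fibre_of_lpull (IsPullback.of_hasPullback f j) e₀ z₀ (hV₀ y z₀ hz₀') n
      (lt_of_lt_of_le hn (ha ⟨y, hy, rfl⟩))).of_iso ((tensM _).mapIso (stalkCxOverResIso f _ P).symm)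
  intro F ⟨eF⟩
  -- a chart
  have chart : ∀ z : X, ∃ (U : X.Opens) (_ : z ∈ U) (c : ℤ), a ≤ c ∧
      (∀ x ∈ U, ∀ b, DerSch.HasTorAmplitudeAt f a b F x → DerSch.HasTorAmplitudeAt f a c F x) ∧
      (IsClosed ({z} : Set X) → ∀ x ∈ U, x ⤳ z → DerSch.HasTorAmplitudeAt f a c F x) := by
    intro z
    obtain ⟨U, hU, hzU, -⟩ := exists_isAffineOpen_mem_and_subset (X := X) (x := z) (U := ⊤) trivial
    let ψ := Spec.preimage (hU.fromSpec ≫ f)
    let A : Type u := Γ(X, U)
    let g : Spec (CommRingCat.of A) ⟶ X := hU.fromSpec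
    let h := Spec.map (CommRingCat.ofHom ψ.hom)
    have hgh : g ≫ f = h := (Spec.map_preimage (hU.fromSpec ≫ f)).symm
    haveI : Flat h := hgh ▸ inferInstanceAs (Flat (g ≫ f))
    haveI : LocallyOfFiniteType h := hgh ▸ inferInstanceAs (LocallyOfFiniteType (g ≫ f))
    haveI : PreservesFiniteLimits (tilde.functor (CommRingCat.of A)) := TildeD.preservesFiniteLimits_tilde
    obtain ⟨M, ⟨eM⟩⟩ := ((TildeD.main (CommRingCat.of A)).2.2 _).1
      (TildeD.isQCohD_restrict g E (isQCohD_of_pc hpc))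
    obtain ⟨N, c₀, hb₀, hfree, ⟨eN⟩⟩ := (isPseudoCoherent'_iff M).2 fun m =>
      (TildePerf.isPseudoCoherentD_tilde_iff M m).1
        (isPseudoCoherentD_iso eM.symm (isPseudoCoherentD_restrict g (hpc m)))
    let c := max c₀ a
    have hb : DRing.VanishesAbove N c := fun i hi => hb₀ i (lt_of_le_of_lt (le_max_left _ _) hi)
    have hproj : ∀ i, Module.Projective A (N.X i) := fun i => (fFree_imp_fProj (hfree i)).2
    have hfin : ∀ i, Module.Finite A (N.X i) := fun i => (hfree i).1
    have hNK : DRing.IsKFlat A N := isKFlat_of_projective hb hproj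
    let eT : DCoh.toD (Spec (CommRingCat.of A)) (TildePerf.tilC N) ≅ DCoh.toD (Spec (CommRingCat.of A)) ((resCx g).obj F) :=
      (TildePerf.tildeDQ N).symm ≪≫ (DCoh.tildeD (CommRingCat.of A)).mapIso eN ≪≫ eM ≪≫
        (DCoh.restrictD g).mapIso eF.symm ≪≫ restrictDQ g F
    let eP : DCoh.toD (Spec (CommRingCat.of A)) ((resCx g).obj P) ≅ DCoh.toD (Spec (CommRingCat.of A)) (TildePerf.tilC N) :=
      (restrictDQ g P).symm ≪≫ (DCoh.restrictD g).mapIso (resXIso E) ≪≫
        ((TildePerf.tildeDQ N).symm ≪≫ (DCoh.tildeD (CommRingCat.of A)).mapIso eN ≪≫ eM).symm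
    have toX : ∀ (y : Spec (CommRingCat.of A)) (b : ℤ),
        DerSch.HasTorAmplitudeAt h a b (TildePerf.tilC N) y ↔ DerSch.HasTorAmplitudeAt f a b F (g y) := fun y b =>
      ⟨fun hy => (hasTorAmplitudeAt_restrict_iff g f y F a b).1
          ((hasTorAmplitudeAt_hom_congr hgh).2 (hasTorAmplitudeAt_congr h eT hy)),
        fun hy => hasTorAmplitudeAt_congr h eT.symm
          ((hasTorAmplitudeAt_hom_congr hgh).1 ((hasTorAmplitudeAt_restrict_iff g f y F a b).2 hy))⟩
    have hr : ∀ x ∈ U, ∃ y, g y = x := fun x hx => hU.range_fromSpec.ge hx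
    refine ⟨U, hzU, c, le_max_right _ _, fun x hx b hb' => ?_, fun hz x hx hxz => ?_⟩
    · obtain ⟨y, rfl⟩ := hr x hx
      exact (toX y c).1 (amp_upper ψ.hom hb hNK ((toX y b).2 hb'))
    · obtain ⟨y, rfl⟩ := hr x hx
      obtain ⟨y₁, rfl⟩ := hr z hzU
      have hk : ∀ y, DRing.IsKFlat _ (((stkF y).mapHomologicalComplex (ComplexShape.up ℤ)).obj ((resCx g).obj P)) :=
        (isKFlat_iff_stalk _).1 (isKFlat_resCx_resX g _).1
      refine (toX y c).1 (amp_of_specializes ψ.hom N (g.isOpenEmbedding.isInducing.specializes_iff.1 hxz) ?_)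
      refine amp_of_fibEx ψ.hom hb hproj hfin (by omega) y₁ ?_
      exact fibEx_congr h (hk y₁) (isKFlat_stk_tilC hNK y₁) eP (fibEx_restrict g f hgh (hfib _ hz))
  intro x
  obtain ⟨U, hxU, c, -, hup, -⟩ := chart x
  refine ⟨U, a, c, hxU, fun x' hx' => ?_⟩
  obtain ⟨z, hzc, hz⟩ := IsClosed.exists_closed_singleton (isClosed_closure (s := ({x'} : Set X)))
    ⟨x', subset_closure rfl⟩
  have hs : x' ⤳ z := specializes_iff_mem_closure.2 hzc
  obtain ⟨U', hzU', c', -, -, hcl⟩ := chart z
  exact hup x' hx' c' (hcl hz x' (hs.mem_open U'.2 hzU') hs)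

end Groth.Agent.FibAmp
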